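import Groth.Agent.Sga2.ESZ
import Groth.Agent.Sga2lef.H503.RegNil
import Groth.Agent.Fga.DimCut
import Groth.Agent.Ega2.TensPow
import Groth.Agent.Dual.H366.ExtQCoh
import Groth.Agent.Sga67.LocBasisOps
import Groth.Agent.Sga67.TensorOps
import Groth.Agent.CycA.SerreGeom
import Groth.Agent.Curves.K320.DegTools
import Groth.Agent.S0002
import Groth.Agent.Fdesc.LocGenTensor
import Groth.Agent.Fga.TwistCoh

/-!
# Vanishing from an inequality for `p`-th powers

`X` proper over a field `k`, `L` ample with inverse `P`, `E a` coherent modules of depth `≥ n` at the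
closed points, with
`∑_{a+b=l} h^b(E a ⊗ M) ≤ ∑_{a+b=l} h^b(E a ⊗ M^p)` for `l < p` and invertible `M`.
Then `H^b(X, E a ⊗ P) = 0` for `a + b < min (n, p)`.
-/

set_option autoImplicit false

universe u

open CategoryTheory CategoryTheory.Limits AlgebraicGeometry

namespace K670.VanIter

variable (k : Type u) [Field k] {X : Scheme.{u}} [X.Over (Spec (CommRingCat.of k))]

/-- The sum of the dimensions. -/
noncomputable def hs (E : ℕ → X.Modules) (M : X.Modules) (l : ℕ) : ℕ :=
  ∑ a ∈ Finset.range (l + 1), Module.finrank k (Coh.HH X (CohB1.tensorMod (E a) M) (l - a))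

theorem hs_congr (E : ℕ → X.Modules) {M M' : X.Modules} (e : M ≅ M') (l : ℕ) :
    hs k E M l = hs k E M' l := by
  refine Finset.sum_congr rfl fun a _ => ?_
  exact K320.DegTools.finrank_congr k (Groth.Agent.Ega2.Tens.mapTIso (Iso.refl _) e) _

theorem hs_le (E : ℕ → X.Modules) {p l : ℕ} 
    (hineq : ∀ M : X.Modules, PicF.IsInvertible M → hs k E M l ≤ hs k E (CohB1.tensorPow M p) l)
    {P : X.Modules} (hP : PicF.IsInvertible P) (N : ℕ) :
    hs k E P l ≤ hs k E (CohB1.tensorPow P (p ^ N)) l := by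
  induction N with
  | zero =>
    rw [pow_zero, hs_congr k E (Groth.Agent.Ega2.TensPow.powOne P)]
  | succ N ih =>
    refine ih.trans ((hineq _ (Groth.Agent.Fdesc.LocGen.isInvertible_tensorPow hP _)).trans ?_)
    rw [hs_congr k E (Groth.Agent.Ega2.TensPow.powMul P (p ^ N) p)]
    exact le_rfl

theorem subsingleton_of_hs_eq_zero [IsProper (X ↘ Spec (CommRingCat.of k))] (E : ℕ → X.Modules)
    (hE : ∀ a, Coh.IsCoh (E a)) {P : X.Modules} (hP : PicF.IsInvertible P) {a b : ℕ}
    (h : hs k E P (a + b) = 0) : Subsingleton (Coh.HH X (CohB1.tensorMod (E a) P) b) := by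
  have h1 := (Finset.sum_eq_zero_iff.1 h) a (Finset.mem_range.2 (by omega))
  rw [Nat.add_sub_cancel_left] at h1
  have h2 := Groth.Agent.S0002.result k X (CohB1.tensorMod (E a) P)
    (Groth.Agent.Fga.TwistCoh.isCoh_tensor (hE a) hP) b
  exact Module.finrank_zero_iff.1 h1

/-- Vanishing from the inequality. -/
theorem main [IsProper (X ↘ Spec (CommRingCat.of k))] [Smooth (X ↘ Spec (CommRingCat.of k))]
    [IrreducibleSpace X] (n : ℕ) (hn : topologicalKrullDim X = n) {p : ℕ} (hp : 1 < p)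
    (E : ℕ → X.Modules) (hE : ∀ a, FlatMod.IsFinLocFree (E a))
    {L P : X.Modules} (hL : CohB1.IsAmple L) (hLP : ClSub.IsInverseOf L P) (a b : ℕ) (hab : a + b < n)
    (hineq : ∀ M : X.Modules, PicF.IsInvertible M →
      hs k E M (a + b) ≤ hs k E (CohB1.tensorPow M p) (a + b)) :
    Subsingleton (Coh.HH X (CohB1.tensorMod (E a) P) b) := by
  have hP : PicF.IsInvertible P := (Groth.Agent.Dix.IdealModCartier.isInvertible_of_isInverseOf hLP).2
  have := LocallyOfFiniteType.isLocallyNoetherian (X ↘ Spec (CommRingCat.of k))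
  have hEc : ∀ a, Coh.IsCoh (E a) := fun a =>
    Groth.Agent.PerfA.CohSerre.isCoh_of_isFinLocFree (hE a)
  have hdep : ∀ (a' : ℕ) (x : X), IsClosed ({x} : Set X) →
      ((a + b : ℕ) : ℕ∞) < LocCoh.depth (X.presheaf.stalk x) ((E a').presheaf.stalk x) := by
    intro a' x hx
    have := Groth.Agent.CycA.SerreGeom.isRegularLocalRing_stalk (X ↘ Spec (CommRingCat.of k)) x
    have h1 := Groth.Agent.Sga2lef.H503.RegNil.le_depth_flf (hEc a') (hE a') x (N := n)
      ((Groth.Agent.Fga.DimCut.ringKrullDim_stalk_eq k X x hx).trans hn)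
    exact lt_of_lt_of_le (by exact_mod_cast hab) h1
  have hv : ∀ a' : ℕ, ∃ m₀, ∀ m, m₀ ≤ m → ∀ i ≤ a + b,
      Subsingleton (Coh.HH X (CohB1.tensorMod (E a') (CohB1.tensorPow P m)) i) := fun a' =>
    Groth.Agent.Sga2.ESZ.esz k X hLP hL (E a') (hEc a') (a + b) (hdep a')
  choose m₀ hm₀ using hv
  obtain ⟨N, hN⟩ : ∃ N, ∀ a' ∈ Finset.range (a + b + 1), m₀ a' ≤ p ^ N := by
    refine ⟨∑ a' ∈ Finset.range (a + b + 1), m₀ a', fun a' ha' => ?_⟩
    exact (Finset.single_le_sum (f := m₀) (fun _ _ => Nat.zero_le _) ha').trans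
      (Nat.lt_pow_self hp).le
  refine subsingleton_of_hs_eq_zero k E hEc hP ?_
  apply Nat.eq_zero_of_le_zero
  refine (hs_le k E hineq hP N).trans ?_
  refine (Finset.sum_eq_zero fun a' ha' => ?_).le
  have := hm₀ a' (p ^ N) (hN a' ha') (a + b - a') (Nat.sub_le _ _)
  exact Module.finrank_zero_of_subsingleton

/-- A family of exterior powers with prescribed member. -/
theorem exists_family {X : Scheme.{u}} {F : X.Modules} (hF : Coh.IsQCoh F) (a : ℕ) {A : X.Modules}
    (hA : ExtPow.IsExtPow a F A) :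
    ∃ E : ℕ → X.Modules, (∀ i, ExtPow.IsExtPow i F (E i)) ∧ E a = A := by
  classical
  choose B hB using fun i => Groth.Agent.Dual.H366.ExtQCoh.exists_isExtPow i hF
  refine ⟨fun i => if i = a then A else B i, fun i => ?_, if_pos rfl⟩
  dsimp only
  split_ifs with h
  · subst h
    exact hA
  · exact hB i

end K670.VanIter
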